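import Groth.Agent.FunFld1.Nonsingular
import Groth.Agent.FunFld1.Rational

/-! The fibre of a projective map over an image point. -/

open FunFld Groth.FunFld1
open scoped WithZero

namespace Groth.Funfld2.Fibre

variable {k K : Type*} [Field k] [IsAlgClosed k] [Field K] [Algebra k K]
  (hK : IsFunctionField k K) {ι : Type*} [Fintype ι] {φ : ι → K} {P Q : Place k K} {j : ι}
include hK

/-- Congruent constants for all of `k[y]` from those of the generators. -/
theorem exists_common_const (hQ : IsAffine (ratios φ j) Q) (hP : IsAffine (ratios φ j) P) {c : ι → k}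
    (hcP : ∀ i, P.1 (ratios φ j i - algebraMap k K (c i)) < 1)
    (hcQ : ∀ i, Q.1 (ratios φ j i - algebraMap k K (c i)) < 1) {a : K}
    (ha : a ∈ Algebra.adjoin k (Set.range (ratios φ j))) :
    ∃ d : k, P.1 (a - algebraMap k K d) < 1 ∧ Q.1 (a - algebraMap k K d) < 1 := by
  induction ha using Algebra.adjoin_induction with
  | mem x hx => obtain ⟨i, rfl⟩ := hx; exact ⟨c i, hcP i, hcQ i⟩
  | algebraMap r => exact ⟨r, by simp, by simp⟩
  | add a b _ _ ha hb =>
    obtain ⟨d, h1, h2⟩ := ha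
    obtain ⟨d', h1', h2'⟩ := hb
    refine ⟨d + d', ?_, ?_⟩ <;> rw [map_add, add_sub_add_comm]
    · exact Valuation.map_add_lt _ h1 h1'
    · exact Valuation.map_add_lt _ h2 h2'
  | mul a b ha' _ ha hb =>
    obtain ⟨d, h1, h2⟩ := ha
    obtain ⟨d', h1', h2'⟩ := hb
    have e : ∀ R : Place k K, R.1 a ≤ 1 → R.1 (a - algebraMap k K d) < 1 →
        R.1 (b - algebraMap k K d') < 1 → R.1 (a * b - algebraMap k K (d * d')) < 1 := by
      intro R hRa x y
      rw [map_mul, show a * b - algebraMap k K d * algebraMap k K d' =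
        a * (b - algebraMap k K d') + (a - algebraMap k K d) * algebraMap k K d' by ring]
      refine Valuation.map_add_lt _ ?_ ?_
      · rw [map_mul]; exact (mul_le_of_le_one_left' hRa).trans_lt y
      · rw [map_mul]; exact (mul_le_of_le_one_right' (R.2.1 _)).trans_lt x
    exact ⟨d * d', e P (hP.le_one ha') h1 h1', e Q (hQ.le_one ha') h2 h2'⟩

/-- The fibre described by the local ring. -/
theorem crit_of_sameImage (h : SameImage φ P Q) {z : K} (hz : InLocRing φ P z) :
    Q.1 z ≤ 1 ∧ (Q.1 z < 1 ↔ P.1 z < 1) := by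
  obtain ⟨j, hj, hPm, hQm, hc⟩ := h
  choose c hc using hc
  obtain ⟨u, hu, w, hw, hw1, hzw⟩ := inLocRing_at hz (⟨hj, hPm⟩ : IsMin φ P j)
  have hQa := (isAffine_ratios_iff hj).2 hQm
  have hPa := (isAffine_ratios_iff hj).2 hPm
  have hcc : ∀ i, P.1 (ratios φ j i - algebraMap k K (c i)) < 1 ∧
      Q.1 (ratios φ j i - algebraMap k K (c i)) < 1 := hc
  obtain ⟨d, hdP, hdQ⟩ := exists_common_const hK hQa hPa (fun i => (hcc i).1) (fun i => (hcc i).2) hw
  obtain ⟨e, heP, heQ⟩ := exists_common_const hK hQa hPa (fun i => (hcc i).1) (fun i => (hcc i).2) hu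
  have key : ∀ (R : Place k K) (a : K) (x : k), R.1 (a - algebraMap k K x) < 1 →
      (R.1 a < 1 ↔ x = 0) := fun R a x hax => by
    constructor
    · intro ha
      by_contra hx
      have h1 := (R.1.map_sub a (a - algebraMap k K x)).trans_lt (max_lt ha hax)
      rw [sub_sub_cancel, val_algebraMap R hx] at h1
      exact lt_irrefl _ h1
    · rintro rfl
      simpa using hax
  have hd0 : d ≠ 0 := fun e => absurd ((key P w d hdP).2 e) (by rw [hw1]; exact lt_irrefl _)
  have hQw : Q.1 w = 1 := le_antisymm (hQa.le_one hw) (not_lt.1 fun h => hd0 ((key Q w d hdQ).1 h))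
  have hQz : Q.1 z = Q.1 u := by rw [← hzw, map_mul, hQw, mul_one]
  have hPz : P.1 z = P.1 u := by rw [← hzw, map_mul, hw1, mul_one]
  rw [hQz, hPz, key Q u e heQ, key P u e heP]
  exact ⟨hQa.le_one hu, Iff.rfl⟩

/-- A criterion for lying in the fibre, read at any minimal entry. -/
theorem sameImage_of_crit (hj : IsMin φ P j)
    (h : ∀ z, InLocRing φ P z → Q.1 z ≤ 1 ∧ (Q.1 z < 1 ↔ P.1 z < 1)) :
    IsAffine (ratios φ j) Q ∧ SameImage φ P Q := by
  have hQa : IsAffine (ratios φ j) Q := fun i =>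
    (h _ (inLocRing_of_mem_adjoin hj (Algebra.subset_adjoin (Set.mem_range_self i)))).1
  refine ⟨hQa, j, hj.1, hj.2, (isAffine_ratios_iff hj.1).1 hQa, fun i => ?_⟩
  obtain ⟨c, hc⟩ := exists_const_sub_lt_one (deg_eq_one_of_isAlgClosed (IsFF.of_isFunctionField hK) P)
    (hj.affine i)
  refine ⟨c, hc, ((h _ (inLocRing_of_mem_adjoin hj (sub_mem (Algebra.subset_adjoin (Set.mem_range_self i))
    (Subalgebra.algebraMap_mem _ c)))).2).2 hc⟩

theorem isAffine_of_sameImage (hj : IsMin φ P j) (h : SameImage φ P Q) : IsAffine (ratios φ j) Q :=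
  fun i => (crit_of_sameImage hK h
    (inLocRing_of_mem_adjoin hj (Algebra.subset_adjoin (Set.mem_range_self i)))).1

/-- A place outside the fibre is separated from `P` by `k[y]`. -/
theorem exists_separating (hj : IsMin φ P j) (hQa : IsAffine (ratios φ j) Q)
    (h : ¬ SameImage φ P Q) :
    ∃ b ∈ Algebra.adjoin k (Set.range (ratios φ j)), P.1 (b - 1) < 1 ∧ Q.1 b < 1 := by
  have hd := deg_eq_one_of_isAlgClosed (IsFF.of_isFunctionField hK)
  choose c hc using fun i => exists_const_sub_lt_one (hd P) (hj.affine i)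
  obtain ⟨i, hi⟩ : ∃ i, ¬ Q.1 (ratios φ j i - algebraMap k K (c i)) < 1 := by
    by_contra! hall
    exact h ⟨j, hj.1, hj.2, (isAffine_ratios_iff hj.1).1 hQa, fun i => ⟨c i, hc i, hall i⟩⟩
  obtain ⟨c', hc'⟩ := exists_const_sub_lt_one (hd Q) (hQa i)
  have hcc : c i - c' ≠ 0 := fun e => hi (by rwa [sub_eq_zero.1 e])
  refine ⟨algebraMap k K (c i - c')⁻¹ * (ratios φ j i - algebraMap k K c'),
    mul_mem (Subalgebra.algebraMap_mem _ _) (sub_mem (Algebra.subset_adjoin (Set.mem_range_self i))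
      (Subalgebra.algebraMap_mem _ _)), ?_, ?_⟩
  · have e : algebraMap k K (c i - c')⁻¹ * (ratios φ j i - algebraMap k K c') - 1 =
        algebraMap k K (c i - c')⁻¹ * (ratios φ j i - algebraMap k K (c i)) := by
      have : algebraMap k K (c i - c')⁻¹ * (algebraMap k K (c i) - algebraMap k K c') = 1 := by
        rw [← map_sub, ← map_mul, inv_mul_cancel₀ hcc, map_one]
      linear_combination this
    rw [e, map_mul]
    exact (mul_le_of_le_one_left' (P.2.1 _)).trans_lt (hc i)
  · rw [map_mul]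
    exact (mul_le_of_le_one_left' (Q.2.1 _)).trans_lt hc'

omit hK [IsAlgClosed k] in
theorem adjoin_ratios_eq_top {n : ℕ} {φ : Fin (n + 1) → K} {j : Fin (n + 1)} (h0 : φ 0 ≠ 0)
    (hj : φ j ≠ 0) (h : IntermediateField.adjoin k (Set.range fun i => φ i / φ 0) = ⊤) :
    IntermediateField.adjoin k (Set.range (ratios φ j)) = ⊤ := by
  rw [eq_top_iff, ← h]
  refine IntermediateField.adjoin_le_iff.2 ?_
  rintro _ ⟨i, rfl⟩
  change φ i / φ 0 ∈ _
  rw [show φ i / φ 0 = (φ i / φ j) / (φ 0 / φ j) by field_simp]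
  exact div_mem (IntermediateField.subset_adjoin k _ ⟨i, rfl⟩)
    (IntermediateField.subset_adjoin k _ ⟨0, rfl⟩)

end Groth.Funfld2.Fibre
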