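import Groth.Agent.Funfld2.Fibre.Basic

/-! A conductor for the local ring of a projective map at an image point. -/

open FunFld Groth.FunFld1
open scoped WithZero

namespace Groth.Funfld2.Fibre

theorem exists_local_conductor {k K : Type*} [Field k] [IsAlgClosed k] [Field K] [Algebra k K]
    (hK : IsFunctionField k K) {ι : Type*} [Fintype ι] {φ : ι → K} {P : Place k K} {j : ι}
    (hj : IsMin φ P j) (htop : IntermediateField.adjoin k (Set.range (ratios φ j)) = ⊤) :
    ∃ N : ℕ, ∀ z : K, (∀ Q : Place k K, SameImage φ P Q → Q.1 z ≤ WithZero.exp (-(N : ℤ))) →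
      InLocRing φ P z := by
  classical
  have hF := IsFF.of_isFunctionField hK
  set y := ratios φ j with hy
  obtain ⟨a, haA, ha0, ha⟩ := exists_conductor hK (y := y) htop
  set S := (div k a).support with hS
  refine ⟨S.sup fun Q => (Q.ord a).toNat, fun z hz => ?_⟩
  rcases eq_or_ne z 0 with rfl | hz0
  · exact inLocRing_of_mem_adjoin hj (zero_mem _)
  set T := ((div k a).support ∪ (div k z).support).filter
    (fun Q => IsAffine y Q ∧ ¬ SameImage φ P Q) with hT
  have hb : ∀ Q ∈ T, ∃ b ∈ Algebra.adjoin k (Set.range y), P.1 (b - 1) < 1 ∧ Q.1 b < 1 := fun Q hQ =>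
    Groth.Funfld2.Fibre.exists_separating hK hj (Finset.mem_filter.1 hQ).2.1 (Finset.mem_filter.1 hQ).2.2
  choose! b hbA hbP hbQ using hb
  set M : Place k K → ℕ := fun Q => (Q.ord a - Q.ord z).toNat with hM
  set s := ∏ Q ∈ T, b Q ^ M Q with hs
  have hsA : s ∈ Algebra.adjoin k (Set.range y) := prod_mem fun Q hQ => pow_mem (hbA Q hQ) _
  have hsP : P.1 s = 1 := by
    rw [hs, map_prod]
    refine Finset.prod_eq_one fun Q hQ => ?_
    rw [map_pow, show b Q = 1 + (b Q - 1) by ring, val_one_add_of_lt_one P (hbP Q hQ), one_pow]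
  refine inLocRing_of_frac hj (u := a * (z * s / a)) ?_ hsA hsP (by rw [mul_div_cancel₀ _ ha0])
  refine ha _ fun Q hQ => ?_
  have hs1 : Q.1 s ≤ 1 := hQ.le_one hsA
  rw [map_div₀, map_mul, div_le_one₀ (zero_lt_iff.2 ((Valuation.ne_zero_iff _).2 ha0))]
  by_cases hsame : SameImage φ P Q
  · refine (mul_le_of_le_one_right' hs1).trans ((hz Q hsame).trans ?_)
    rw [val_eq_exp_neg_ord Q ha0, WithZero.exp_le_exp]
    by_cases hQS : Q ∈ S
    · have := Finset.le_sup (f := fun Q : Place k K => (Q.ord a).toNat) hQS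
      omega
    · rw [hS, Finsupp.notMem_support_iff, hF.div_apply] at hQS
      omega
  · by_cases hQT : Q ∈ T
    · have h1 : Q.1 s ≤ Q.1 (b Q) ^ M Q := by
        rw [hs, map_prod, ← Finset.mul_prod_erase _ _ hQT, map_pow]
        refine mul_le_of_le_one_right' (Finset.prod_le_one' fun R hR => ?_)
        rw [map_pow]
        exact pow_le_one₀ zero_le (hQ.le_one (hbA R (Finset.mem_of_mem_erase hR)))
      refine (mul_le_mul' le_rfl (h1.trans (pow_le_exp_neg (hbQ Q hQT) _))).trans ?_
      rw [val_eq_exp_neg_ord Q ha0, val_eq_exp_neg_ord Q hz0, ← WithZero.exp_add, WithZero.exp_le_exp]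
      simp only [hM]
      omega
    · have h0 : Q.ord a = 0 ∧ Q.ord z = 0 := by
        constructor <;> by_contra hne <;> refine hQT (Finset.mem_filter.2 ⟨?_, hQ, hsame⟩)
        · exact Finset.mem_union_left _ (by rw [Finsupp.mem_support_iff, hF.div_apply]; exact hne)
        · exact Finset.mem_union_right _ (by rw [Finsupp.mem_support_iff, hF.div_apply]; exact hne)
      refine (mul_le_of_le_one_right' hs1).trans ?_
      rw [val_eq_exp_neg_ord Q ha0, val_eq_exp_neg_ord Q hz0, h0.1, h0.2]


end Groth.Funfld2.Fibre
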